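import Cfsg.Agent.FiBigMax.Op

/-!
Invariant colours of the set for elements fixing given points, and the subgroups fixing given points.
-/

set_option autoImplicit false
set_option maxRecDepth 20000

namespace Cfsg.Lib.FiBigMax

open Cfsg.Lib.FiBig
open Cfsg.Lib.FiThree (img allB allB_iff evs)

attribute [local irreducible] dF dPos op

/-- The permutations of the image fixing the listed points. -/
noncomputable def fixIn (fx : List ℕ) : Subgroup (Equiv.Perm (Fin 324)) where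
  carrier := {σ | σ ∈ rho.range ∧ ∀ i : Fin 324, i.val ∈ fx → σ i = i}
  one_mem' := ⟨one_mem _, fun _ _ => rfl⟩
  mul_mem' {a b} ha hb := ⟨mul_mem ha.1 hb.1, fun i hi => by rw [Equiv.Perm.mul_apply, hb.2 i hi, ha.2 i hi]⟩
  inv_mem' {a} ha := ⟨inv_mem ha.1, fun i hi => Equiv.Perm.inv_eq_iff_eq.2 (ha.2 i hi).symm⟩

theorem mem_fixIn {fx : List ℕ} {σ : Equiv.Perm (Fin 324)} :
    σ ∈ fixIn fx ↔ σ ∈ rho.range ∧ ∀ i : Fin 324, i.val ∈ fx → σ i = i := Iff.rfl

/-- The permutation as a function on numbers. -/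
def natFun (σ : Equiv.Perm (Fin 324)) (x : ℕ) : ℕ := if h : x < 324 then (σ ⟨x, h⟩).val else x

theorem natFun_val (σ : Equiv.Perm (Fin 324)) (i : Fin 324) : natFun σ i.val = (σ i).val := dif_pos i.isLt

theorem natFun_inj (σ : Equiv.Perm (Fin 324)) {x y : ℕ} (hx : x < 324) (hy : y < 324)
    (h : natFun σ x = natFun σ y) : x = y := by
  rw [natFun, dif_pos hx, natFun, dif_pos hy] at h
  exact congrArg Fin.val (σ.injective (Fin.ext h))

theorem natFun_lt (σ : Equiv.Perm (Fin 324)) {x : ℕ} (hx : x < 324) : natFun σ x < 324 := by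
  rw [natFun, dif_pos hx]
  exact Fin.isLt _

theorem natFun_op {σ : Equiv.Perm (Fin 324)} (hσ : σ ∈ rho.range) {a b : ℕ} (ha : a < 324) (hb : b < 324) :
    natFun σ (op a b) = op (natFun σ a) (natFun σ b) := by
  obtain ⟨h, rfl⟩ := hσ
  rw [natFun, dif_pos (op_lt ⟨a, ha⟩ ⟨b, hb⟩), natFun, dif_pos ha, natFun, dif_pos hb]
  exact op_rho h ⟨a, ha⟩ ⟨b, hb⟩

theorem natFun_fix {fx : List ℕ} {σ : Equiv.Perm (Fin 324)} (hσ : σ ∈ fixIn fx) {b : ℕ} (hb : b ∈ fx) :
    natFun σ b = b := by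
  unfold natFun
  split_ifs with h
  · exact congrArg Fin.val (hσ.2 ⟨b, h⟩ hb)
  · rfl

/-- The first colour. -/
def c0 (fx : List ℕ) (p : ℕ) : ℕ :=
  fx.foldl (fun a b => a * 3 + if Nat.beq p b then 2 else if Nat.beq (op b p) p then 1 else 0) 0

/-- The refined colour. -/
def c1 (fx : List ℕ) (p : ℕ) : ℕ := fx.foldl (fun a b => a * 1000 + c0 fx (op b p)) (c0 fx p)

/-- The number of points fixed by the transposition of the point with zero colour. -/
def cnt (fx : List ℕ) (p : ℕ) : ℕ := (List.range 324).countP fun q => Nat.beq (op p q) q && Nat.beq (c1 fx q) 0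

theorem beq_congr {x y x' y' : ℕ} (h : x = y ↔ x' = y') : Nat.beq x y = Nat.beq x' y' := by
  rw [Bool.eq_iff_iff]
  simp [h]

variable {fx : List ℕ} {σ : Equiv.Perm (Fin 324)}

theorem c0_inv (hfx : ∀ b ∈ fx, b < 324) (hσ : σ ∈ fixIn fx) {p : ℕ} (hp : p < 324) :
    c0 fx (natFun σ p) = c0 fx p := by
  refine List.foldl_ext _ _ _ fun a b hb => ?_
  have hb' := hfx b hb
  have e1 : Nat.beq (natFun σ p) b = Nat.beq p b := beq_congr
    ⟨fun e => natFun_inj σ hp hb' (e.trans (natFun_fix hσ hb).symm), fun e => by rw [e]; exact natFun_fix hσ hb⟩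
  have e2 : op b (natFun σ p) = natFun σ (op b p) := by rw [natFun_op hσ.1 hb' hp, natFun_fix hσ hb]
  have e3 : Nat.beq (op b (natFun σ p)) (natFun σ p) = Nat.beq (op b p) p := beq_congr
    ⟨fun e => natFun_inj σ (op_lt ⟨b, hb'⟩ ⟨p, hp⟩) hp (e2 ▸ e), fun e => by rw [e2, e]⟩
  rw [e1, e3]

theorem c1_inv (hfx : ∀ b ∈ fx, b < 324) (hσ : σ ∈ fixIn fx) {p : ℕ} (hp : p < 324) :
    c1 fx (natFun σ p) = c1 fx p := by
  unfold c1
  rw [c0_inv hfx hσ hp]
  refine List.foldl_ext _ _ _ fun a b hb => ?_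
  have hb' := hfx b hb
  have e2 : op b (natFun σ p) = natFun σ (op b p) := by rw [natFun_op hσ.1 hb' hp, natFun_fix hσ hb]
  rw [e2, c0_inv hfx hσ (op_lt ⟨b, hb'⟩ ⟨p, hp⟩)]

theorem cnt_inv (hfx : ∀ b ∈ fx, b < 324) (hσ : σ ∈ fixIn fx) {p : ℕ} (hp : p < 324) :
    cnt fx (natFun σ p) = cnt fx p := by
  unfold cnt
  rw [← List.map_coe_finRange_eq_range, List.countP_map, List.countP_map]
  have hperm : ((List.finRange 324).map σ).Perm (List.finRange 324) :=
    (List.perm_ext_iff_of_nodup ((List.nodup_finRange 324).map σ.injective) (List.nodup_finRange 324)).2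
      fun a => ⟨fun _ => List.mem_finRange a, fun _ => List.mem_map.2 ⟨σ.symm a, List.mem_finRange _, σ.apply_symm_apply a⟩⟩
  rw [← hperm.countP_eq, List.countP_map]
  refine List.countP_congr fun q _ => ?_
  simp only [Function.comp_apply, Bool.and_eq_true]
  have e2 : op (natFun σ p) (σ q).val = natFun σ (op p q.val) := by rw [natFun_op hσ.1 hp q.isLt, natFun_val]
  rw [← natFun_val σ q, c1_inv hfx hσ q.isLt, natFun_val σ q, e2]
  refine and_congr ?_ Iff.rfl
  simp only [Nat.beq_eq]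
  exact ⟨fun e => natFun_inj σ (op_lt ⟨p, hp⟩ q) q.isLt (e.trans (natFun_val σ q).symm),
    fun e => by rw [e, natFun_val]⟩

end Cfsg.Lib.FiBigMax
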