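import Cfsg.Agent.FiBigMax.Tabs
import Cfsg.Agent.FiBigMax.Data.Points
import Mathlib.GroupTheory.GroupAction.Pointwise

/-!
A set of transpositions of the presented Fischer group on ten letters, its stabiliser and the action on it.
-/

set_option autoImplicit false
set_option maxRecDepth 20000

namespace Cfsg.Lib.FiBigMax

open Cfsg.Lib.FiBig MulAction
open scoped Pointwise
open Cfsg.Lib.FiThree (img allB allB_iff evs)

theorem dF_ok : allB (fun i => Nat.ble (img dF i + 1) 31671 && Nat.beq (img dPos (img dF i)) i) 324 = true := by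
  decide +kernel

theorem dPos_ok :
    allB (fun y => Nat.beq (img dPos y) 324 || (Nat.ble (img dPos y + 1) 324 && Nat.beq (img dF (img dPos y)) y))
      31671 = true := by
  decide +kernel

attribute [local irreducible] dF dPos

theorem dF_lt {i : ℕ} (hi : i < 324) : img dF i < 31671 := by
  have := allB_iff.1 dF_ok i hi
  simp only [Bool.and_eq_true, Nat.ble_eq] at this
  exact this.1

theorem pos_dF {i : ℕ} (hi : i < 324) : img dPos (img dF i) = i := by
  have := allB_iff.1 dF_ok i hi
  simp only [Bool.and_eq_true] at this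
  exact Nat.eq_of_beq_eq_true this.2

/-- The points of the set, in order. -/
def pt (i : Fin 324) : Fin 31671 := ⟨img dF i.val, dF_lt i.isLt⟩

/-- The set of points. -/
def Delta : Set (Fin 31671) := {p | img dPos p.val < 324}

theorem pt_mem (i : Fin 324) : pt i ∈ Delta := by
  show img dPos (img dF i.val) < 324
  rw [pos_dF i.isLt]
  exact i.isLt

theorem mem_Delta_of {p : Fin 31671} {n : ℕ} (e : p.val = n) (h : Nat.ble (img dPos n + 1) 324 = true) :
    p ∈ Delta := by
  subst e
  exact Nat.le_of_ble_eq_true h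

theorem pt_pos {p : Fin 31671} (hp : p ∈ Delta) : pt ⟨img dPos p.val, hp⟩ = p := by
  apply Fin.ext
  have := allB_iff.1 dPos_ok p.val p.isLt
  simp only [Bool.or_eq_true, Bool.and_eq_true, Nat.ble_eq] at this
  rcases this with h | ⟨-, h⟩
  · exact absurd (Nat.eq_of_beq_eq_true h) (Nat.ne_of_lt hp)
  · exact Nat.eq_of_beq_eq_true h

theorem pt_inj : Function.Injective pt := fun i j h => Fin.ext (by
  rw [← pos_dF i.isLt, ← pos_dF j.isLt]
  exact congrArg (img dPos) (congrArg Fin.val h))

theorem exists_pt {p : Fin 31671} (hp : p ∈ Delta) : ∃ i, pt i = p := ⟨_, pt_pos hp⟩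

/-- The stabiliser of the set. -/
noncomputable def H : Subgroup Fj := stabilizer Fj Delta

theorem mem_H {g : Fj} : g ∈ H ↔ ∀ i : Fin 324, g • pt i ∈ Delta := by
  rw [H, mem_stabilizer_set' (Set.toFinite _)]
  refine ⟨fun h i => h (pt_mem i), fun h p hp => ?_⟩
  obtain ⟨i, rfl⟩ := exists_pt hp
  exact h i

theorem smul_mem {g : Fj} (hg : g ∈ H) {p : Fin 31671} (hp : p ∈ Delta) : g • p ∈ Delta :=
  (mem_stabilizer_set' (Set.toFinite _)).1 hg hp

/-- The image of a point under the stabiliser. -/
noncomputable def rhoFun (h : H) (i : Fin 324) : Fin 324 :=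
  ⟨img dPos ((h : Fj) • pt i).val, smul_mem h.2 (pt_mem i)⟩

theorem pt_rhoFun (h : H) (i : Fin 324) : pt (rhoFun h i) = (h : Fj) • pt i := pt_pos (smul_mem h.2 (pt_mem i))

/-- The action on the set. -/
noncomputable def rho : H →* Equiv.Perm (Fin 324) where
  toFun h :=
    { toFun := rhoFun h
      invFun := rhoFun h⁻¹
      left_inv := fun i => pt_inj (by simp [pt_rhoFun])
      right_inv := fun i => pt_inj (by simp [pt_rhoFun]) }
  map_one' := Equiv.ext fun i => pt_inj ((pt_rhoFun 1 i).trans (by simp))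
  map_mul' g h := Equiv.ext fun i => pt_inj (by
    show pt (rhoFun (g * h) i) = pt (rhoFun g (rhoFun h i))
    rw [pt_rhoFun, pt_rhoFun, pt_rhoFun, Subgroup.coe_mul, mul_smul])

theorem pt_rho (h : H) (i : Fin 324) : pt (rho h i) = (h : Fj) • pt i := pt_rhoFun h i

theorem mem_ker {h : H} : h ∈ rho.ker ↔ ∀ p ∈ Delta, (h : Fj) • p = p := by
  rw [MonoidHom.mem_ker]
  refine ⟨fun e p hp => ?_, fun e => Equiv.ext fun i => pt_inj ?_⟩
  · obtain ⟨i, rfl⟩ := exists_pt hp
    rw [← pt_rho, e]
    rfl
  · rw [pt_rho, e _ (pt_mem i)]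
    rfl

/-- The element acts on the set by the table. -/
def HasT (h : H) (t : ℕ) : Prop := ∀ i : Fin 324, ((rho h i : Fin 324) : ℕ) = img t i.val

/-- The word keeps the set and acts on it by the table. -/
def wordOK (w : List ℕ) (t : ℕ) : Bool :=
  allB (fun i =>
    let j := img dPos (evs w (img dF i))
    Nat.ble (j + 1) 324 && Nat.beq (img t i) j) 324

theorem gen_of_word {w : List ℕ} {t : ℕ} (hw : ∀ a ∈ w, Ok a) (h : wordOK w t = true) :
    ∃ g : H, (g : Fj) = elW w ∧ HasT g t := by
  have hc : ∀ i : Fin 324, img dPos (elW w • pt i : Fin 31671).val < 324 ∧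
      img t i.val = img dPos (elW w • pt i : Fin 31671).val := fun i => by
    have := allB_iff.1 h i.val i.isLt
    simp only [Bool.and_eq_true, Nat.ble_eq] at this
    rw [elW_smul hw]
    exact ⟨this.1, Nat.eq_of_beq_eq_true this.2⟩
  exact ⟨⟨elW w, mem_H.2 fun i => (hc i).1⟩, rfl, fun i => (hc i).2.symm⟩

end Cfsg.Lib.FiBigMax
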