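import Cfsg.Agent.FiBigMax.Core
import Cfsg.Agent.FiBigMax.Data.Chain

/-!
The generators of the stabiliser, as words in transpositions, with their tables on the set.
-/

set_option autoImplicit false
set_option maxRecDepth 20000

namespace Cfsg.Lib.FiBigMax

open Cfsg.Lib.FiBig
open Cfsg.Lib.FiThree (img allB allB_iff evs)

/-- The words. -/
def gWords : List (List ℕ) :=
  [[tp8002], [tp8007], [tp8001], [tm28993], [tm5068], [tp395, tm12], [tm4202, tp301], [tp5260, tp3159, tp1246]]

theorem gWords_tables : ∀ w ∈ gWords, ∀ a ∈ w, Ok a := by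
  simp only [gWords, List.forall_mem_cons, List.not_mem_nil, IsEmpty.forall_iff, implies_true, and_true]
  exact ⟨tt8002.ok, tt8007.ok, tt8001.ok, tn28993.ok, tn5068.ok, ⟨tt395.ok, tn12.ok⟩, ⟨tn4202.ok, tt301.ok⟩,
    tt5260.ok, tt3159.ok, tt1246.ok⟩

theorem gWords_check : allB (fun k => wordOK (gWords.getD k []) (slTabs.getD k 0)) 8 = true := by decide +kernel

theorem gWord_mem {k : ℕ} (hk : k < 8) : gWords.getD k [] ∈ gWords := by
  rw [List.getD_eq_getElem _ _ (show k < gWords.length from hk)]
  exact List.getElem_mem _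

theorem gWord_ok {k : ℕ} (hk : k < 8) : ∀ a ∈ gWords.getD k [], Ok a := gWords_tables _ (gWord_mem hk)

attribute [local irreducible] dF dPos

theorem gen_spec {k : ℕ} (hk : k < 8) :
    ∃ g : H, (g : Fj) = elW (gWords.getD k []) ∧ HasT g (slTabs.getD k 0) :=
  gen_of_word (gWord_ok hk) (allB_iff.1 gWords_check k hk)

end Cfsg.Lib.FiBigMax
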