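import Cfsg.Agent.FiBigMax.Op

/-!
The pointwise stabiliser of the set has at most three elements.
-/

set_option autoImplicit false
set_option maxRecDepth 20000

namespace Cfsg.Lib.FiBigMax

open Cfsg.Lib.FiBig
open Cfsg.Lib.FiThree (img allB allB_iff evs)

/-- The points outside with the same commuting pattern as the target are among the listed ones. -/
def patOK (ts : List (ℕ × ℕ)) (tgt : ℕ) (allow : List ℕ) : Bool :=
  Nat.beq (img dPos tgt) 324 &&
    allB (fun q => Nat.ble (img dPos q + 1) 324 || allow.any (Nat.beq q) ||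
      ts.any fun t => Nat.beq (img t.2 q) q != Nat.beq (img t.2 tgt) tgt) 31671

theorem pat_three :
    patOK [(0, tp0), (7999, tp7999), (8001, tp8001), (8002, tp8002), (8004, tp8004), (11589, tp11589)] 8005
      [499, 712, 8005] = true := by
  decide +kernel

theorem pat_last :
    patOK [(5068, tm5068), (7999, tp7999), (8002, tp8002), (8004, tp8004), (8006, tp8006), (8007, tp8007),
      (11589, tp11589), (8005, tp8005)] 8000 [8005, 8000] = true := by
  decide +kernel

theorem pat_mid :
    patOK [(7999, tp7999), (8001, tp8001), (8002, tp8002), (8004, tp8004), (8006, tp8006), (8007, tp8007),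
      (11589, tp11589), (8005, tp8005), (8000, tp8000)] 8003 [8005, 8000, 8003] = true := by
  decide +kernel

theorem ker_points :
    ([0, 5068, 7999, 8001, 8002, 8004, 8006, 8007, 11589].all fun x => Nat.ble (img dPos x + 1) 324) = true := by
  decide +kernel

attribute [local irreducible] dF dPos

/-- The element fixes the point with the number. -/
def FixesPt (g : Fj) (n : ℕ) : Prop := ∀ p : Fin 31671, p.val = n → g • p = p

variable {g : Fj}

theorem fixes_of_lt (hD : ∀ p ∈ Delta, g • p = p) {n : ℕ} (h : img dPos n < 324) : FixesPt g n :=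
  fun p hp => hD p (show img dPos p.val < 324 by rwa [hp])

theorem pat_spec {ts : List (ℕ × ℕ)} {tgt : ℕ} {allow : List ℕ} (h : patOK ts tgt allow = true)
    (hts : ∀ t ∈ ts, TT t.1 t.2 ∧ FixesPt g t.1) (hD : ∀ p ∈ Delta, g • p = p) (x : Fin 31671) (hx : x.val = tgt) :
    (g • x : Fin 31671).val ∈ allow := by
  simp only [patOK, Bool.and_eq_true] at h
  subst hx
  set y : Fin 31671 := g • x with hy
  have hy' : ¬ img dPos y.val < 324 := fun hlt => by
    have e : y = x := MulAction.injective g (hD y hlt)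
    rw [e, Nat.eq_of_beq_eq_true h.1] at hlt
    omega
  have hq := allB_iff.1 h.2 y.val y.isLt
  simp only [Bool.or_eq_true, Nat.ble_eq, List.any_eq_true, bne_iff_ne, ne_eq] at hq
  rcases hq with (hq | ⟨a, ha, e⟩) | ⟨t, ht, hne⟩
  · exact absurd hq hy'
  · rwa [Nat.eq_of_beq_eq_true e]
  · exfalso
    obtain ⟨htt, hfix⟩ := hts t ht
    obtain ⟨hlt, hat⟩ := id htt
    have hc : g * tr ⟨t.1, hlt⟩ = tr ⟨t.1, hlt⟩ * g := ((commute_tr g _).2 (hfix _ rfl)).eq
    have e : tr (⟨t.1, hlt⟩ : Fin 31671) • y = g • (tr (⟨t.1, hlt⟩ : Fin 31671) • x) := by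
      rw [hy, ← mul_smul, ← hc, mul_smul]
    refine hne ?_
    rw [Bool.eq_iff_iff, Nat.beq_eq, Nat.beq_eq, ← hat y, ← hat x]
    constructor
    · intro he
      have h1 : tr (⟨t.1, hlt⟩ : Fin 31671) • y = y := Fin.ext he
      rw [e, hy] at h1
      exact congrArg Fin.val (MulAction.injective g h1)
    · intro he
      have h1 : tr (⟨t.1, hlt⟩ : Fin 31671) • x = x := Fin.ext he
      rw [e, h1, hy]

theorem fixes_inside (hD : ∀ p ∈ Delta, g • p = p) :
    ∀ n ∈ [0, 5068, 7999, 8001, 8002, 8004, 8006, 8007, 11589], FixesPt g n := fun n hn =>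
  fixes_of_lt hD (Nat.lt_of_succ_le (Nat.ble_eq.mp (List.all_eq_true.1 ker_points n hn)))

theorem eq_one_of_fix (hD : ∀ p ∈ Delta, g • p = p) (h5 : FixesPt g 8005) : g = 1 := by
  have hF := fixes_inside hD
  simp only [List.forall_mem_cons, List.not_mem_nil, IsEmpty.forall_iff, implies_true, and_true] at hF
  obtain ⟨-, f5068, f7999, f8001, f8002, f8004, f8006, f8007, f11589⟩ := hF
  have h0 : FixesPt g 8000 := fun x hx => by
    have := pat_spec pat_last (by
      simp only [List.forall_mem_cons, List.not_mem_nil, IsEmpty.forall_iff, implies_true, and_true]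
      exact ⟨⟨tn5068, f5068⟩, ⟨tt7999, f7999⟩, ⟨tt8002, f8002⟩, ⟨tt8004, f8004⟩, ⟨tt8006, f8006⟩, ⟨tt8007, f8007⟩,
        ⟨tt11589, f11589⟩, tt8005, h5⟩) hD x hx
    simp only [List.mem_cons, List.not_mem_nil, or_false] at this
    rcases this with e | e
    · have := MulAction.injective g (show g • x = g • (⟨8005, by norm_num⟩ : Fin 31671) by
        rw [h5 ⟨8005, by norm_num⟩ rfl]; exact Fin.ext e)
      rw [this] at hx
      norm_num at hx
    · exact Fin.ext (e.trans hx.symm)
  have h3 : FixesPt g 8003 := fun x hx => by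
    have := pat_spec pat_mid (by
      simp only [List.forall_mem_cons, List.not_mem_nil, IsEmpty.forall_iff, implies_true, and_true]
      exact ⟨⟨tt7999, f7999⟩, ⟨tt8001, f8001⟩, ⟨tt8002, f8002⟩, ⟨tt8004, f8004⟩, ⟨tt8006, f8006⟩, ⟨tt8007, f8007⟩,
        ⟨tt11589, f11589⟩, ⟨tt8005, h5⟩, tt8000, h0⟩) hD x hx
    simp only [List.mem_cons, List.not_mem_nil, or_false] at this
    rcases this with e | e | e
    · have := MulAction.injective g (show g • x = g • (⟨8005, by norm_num⟩ : Fin 31671) by
        rw [h5 ⟨8005, by norm_num⟩ rfl]; exact Fin.ext e)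
      rw [this] at hx
      norm_num at hx
    · have := MulAction.injective g (show g • x = g • (⟨8000, by norm_num⟩ : Fin 31671) by
        rw [h0 ⟨8000, by norm_num⟩ rfl]; exact Fin.ext e)
      rw [this] at hx
      norm_num at hx
    · exact Fin.ext (e.trans hx.symm)
  refine eq_one_of_letters ?_
  simp only [letterPts, List.forall_mem_cons, List.not_mem_nil, IsEmpty.forall_iff, implies_true, and_true]
  exact ⟨f11589, f8006, h5, h3, f8002, f8001, h0, f8004, f8007, f7999⟩

/-- The chosen point outside the set. -/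
def outPt : Fin 31671 := ⟨8005, by norm_num⟩

theorem out_cases (hD : ∀ p ∈ Delta, g • p = p) : (g • outPt : Fin 31671).val ∈ [499, 712, 8005] := by
  have hF := fixes_inside hD
  refine pat_spec pat_three ?_ hD outPt rfl
  simp only [List.forall_mem_cons, List.not_mem_nil, IsEmpty.forall_iff, implies_true, and_true]
  refine ⟨⟨tt0, ?_⟩, ⟨tt7999, ?_⟩, ⟨tt8001, ?_⟩, ⟨tt8002, ?_⟩, ⟨tt8004, ?_⟩, tt11589, ?_⟩ <;>
    exact hF _ (by simp)

theorem card_ker : Nat.card rho.ker ≤ 3 := by
  have hD : ∀ k : rho.ker, ∀ p ∈ Delta, ((k : H) : Fj) • p = p := fun k => mem_ker.1 k.2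
  let f : rho.ker → ({499, 712, 8005} : Finset ℕ) := fun k =>
    ⟨(((k : H) : Fj) • outPt : Fin 31671).val, by simpa using out_cases (hD k)⟩
  have hf : Function.Injective f := by
    intro a b e
    have e' : ((a : H) : Fj) • outPt = ((b : H) : Fj) • outPt := Fin.ext (congrArg Subtype.val e)
    have h1 : ((b : H) : Fj)⁻¹ * ((a : H) : Fj) = 1 := eq_one_of_fix
      (fun p hp => by rw [mul_smul, hD a p hp, inv_smul_eq_iff]; exact (hD b p hp).symm)
      (fun p hp => by rw [show p = outPt from Fin.ext hp, mul_smul, e', inv_smul_smul])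
    exact Subtype.ext (Subtype.ext (inv_mul_eq_one.1 h1).symm)
  have := Nat.card_le_card_of_injective f hf
  rw [Nat.card_eq_finsetCard] at this
  exact this.trans (by decide)

end Cfsg.Lib.FiBigMax
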