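import Cfsg.Agent.FiBigMax.Op
import Cfsg.Agent.FiBigMax.Data.Orbits

/-!
The stabiliser of the set is maximal.
-/

set_option autoImplicit false
set_option maxRecDepth 20000

namespace Cfsg.Lib.FiBigMax

open Cfsg.Lib.FiBig Cfsg.Lib.FiTwenty
open Cfsg.Lib.FiThree (img allB allB_iff evs)

/-- The two roots. -/
def rootPt (b : ℕ) : ℕ := if Nat.beq b 0 then 8005 else 31603

theorem big_tree :
    allB (fun y => Nat.ble (img dPos y + 1) 324 || Nat.beq y (rootPt (img bigMeta y % 2)) ||
      (Nat.ble (img bigPar y + 1) 31671 && Nat.beq (img dPos (img bigPar y)) 324 &&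
        Nat.ble (img bigMeta (img bigPar y) / 16 + 1) (img bigMeta y / 16) &&
        Nat.beq (img bigMeta (img bigPar y) % 2) (img bigMeta y % 2) &&
        Nat.beq (evs (gWords.getD (img bigMeta y / 2 % 8) []) (img bigPar y)) y)) 31671 = true := by
  decide +kernel

theorem root_bits :
    (Nat.beq (img bigMeta 8000 % 2) 0 && Nat.beq (img bigMeta 8003 % 2) 0 && Nat.beq (img dPos 8000) 324 &&
      Nat.beq (img dPos 8003) 324) = true := by
  decide +kernel

theorem closure1 : Nat.beq (img tp0 31603) 31499 = true := by decide +kernel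

theorem closure2 : Nat.beq (img tp7999 31499) 31581 = true := by decide +kernel

theorem closure3 : Nat.beq (img tp8002 31581) 31482 = true := by decide +kernel

theorem closure4 : Nat.beq (img tp8002 31603) 31452 = true := by decide +kernel

theorem closure5 : Nat.beq (img tp8004 31452) 31596 = true := by decide +kernel

theorem closure6 : Nat.beq (img tp8004 31482) 31618 = true := by decide +kernel

theorem closure7 : Nat.beq (img tp8006 31596) 31434 = true := by decide +kernel

theorem closure8 : Nat.beq (img tp8006 31618) 31483 = true := by decide +kernel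

theorem closure9 : Nat.beq (img tp31603 31434) 917 = true := by decide +kernel

theorem closure10 : Nat.beq (img tp31603 31483) 3305 = true := by decide +kernel

theorem closure11 : Nat.beq (img tp917 1364) 2490 = true := by decide +kernel

theorem closure12 : Nat.beq (img tp3305 2490) 8005 = true := by decide +kernel

theorem inside_points :
    ([0, 7999, 8002, 8004, 8006, 1364, 11589, 8001, 8007].all fun x => Nat.ble (img dPos x + 1) 324) = true := by
  decide +kernel

theorem moved_point :
    ((List.range 324).any fun i => Nat.beq (img dPos (img tp8005 (img dF i))) 324) = true := by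
  decide +kernel

attribute [local irreducible] dF dPos bigMeta bigPar

theorem orbit_cases (y : Fin 31671) (hy : y ∉ Delta) :
    ∃ (hr : rootPt (img bigMeta y.val % 2) < 31671) (h : H), (h : Fj) • ⟨_, hr⟩ = y := by
  induction hn : img bigMeta y.val / 16 using Nat.strong_induction_on generalizing y with
  | _ n ih =>
    subst hn
    have := allB_iff.1 big_tree y.val y.isLt
    simp only [Bool.or_eq_true, Bool.and_eq_true, Nat.ble_eq] at this
    rcases this with (h | h) | ⟨⟨⟨⟨hu, hout⟩, hlt⟩, hbit⟩, hev⟩
    · exact absurd h hy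
    · have e : rootPt (img bigMeta y.val % 2) = y.val := (Nat.eq_of_beq_eq_true h).symm
      refine ⟨e.trans_lt y.isLt, 1, ?_⟩
      rw [Subgroup.coe_one, one_smul]
      exact Fin.ext e
    · have hk : img bigMeta y.val / 2 % 8 < 8 := Nat.mod_lt _ (by norm_num)
      obtain ⟨g, hg, -⟩ := gen_spec hk
      have hu' : (⟨img bigPar y.val, hu⟩ : Fin 31671) ∉ Delta := by
        show ¬ img dPos (img bigPar y.val) < 324
        rw [Nat.eq_of_beq_eq_true hout]
        exact lt_irrefl _
      obtain ⟨hr, h, e⟩ := ih _ hlt ⟨_, hu⟩ hu' rfl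
      simp only [Nat.eq_of_beq_eq_true hbit] at hr e
      refine ⟨hr, g * h, ?_⟩
      rw [Subgroup.coe_mul, mul_smul, e]
      apply Fin.ext
      rw [hg, elW_smul (gWord_ok hk)]
      exact Nat.eq_of_beq_eq_true hev

/-- The subgroup contains the transposition of the point with the number. -/
def InP (M : Subgroup Fj) (n : ℕ) : Prop := ∀ p : Fin 31671, p.val = n → tr p ∈ M

theorem InP.step {M : Subgroup Fj} {a b c ta : ℕ} (h : Nat.beq (img ta b) c = true) (hta : TT a ta) (ha : InP M a)
    (hb : InP M b) (hbl : b < 31671) : InP M c := fun p hp => by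
  obtain ⟨hal, hat⟩ := hta
  have e : p = tr (⟨a, hal⟩ : Fin 31671) • (⟨b, hbl⟩ : Fin 31671) :=
    Fin.ext ((hat ⟨b, hbl⟩).trans (Nat.eq_of_beq_eq_true h) |>.trans hp.symm).symm
  rw [e, tr_smul, tr_inv]
  exact mul_mem (mul_mem (ha _ rfl) (hb _ rfl)) (ha _ rfl)

theorem H_ne_top : H ≠ ⊤ := fun e => by
  obtain ⟨i, hi, he⟩ := List.any_eq_true.1 moved_point
  have hm := mem_H.1 (e ▸ Subgroup.mem_top (el tp8005)) ⟨i, List.mem_range.1 hi⟩
  have hv : img dPos (img tp8005 (img dF i)) < 324 := by
    have := hm
    rw [show (el tp8005 • pt ⟨i, List.mem_range.1 hi⟩ : Fin 31671) ∈ Delta ↔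
      img dPos (el tp8005 • pt ⟨i, List.mem_range.1 hi⟩ : Fin 31671).val < 324 from Iff.rfl, tt8005.ok.smul] at this
    exact this
  rw [Nat.eq_of_beq_eq_true he] at hv
  exact lt_irrefl _ hv

theorem H_maximal : IsCoatom H := by
  refine ⟨H_ne_top, fun M hM => ?_⟩
  have hle : H ≤ M := hM.le
  have hDel : ∀ p ∈ Delta, tr p ∈ M := fun p hp => by
    obtain ⟨i, rfl⟩ := exists_pt hp
    exact hle (tr_pt_mem i)
  by_contra hne
  by_cases hP : ∀ p, tr p ∈ M → p ∈ Delta
  · refine not_le_of_gt hM fun g hg => mem_H.2 fun i => hP _ ?_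
    rw [tr_smul]
    exact mul_mem (mul_mem hg (hDel _ (pt_mem i))) (inv_mem hg)
  push Not at hP
  obtain ⟨p, hp, hpD⟩ := hP
  have hin : ∀ n ∈ [0, 7999, 8002, 8004, 8006, 1364, 11589, 8001, 8007], InP M n := fun n hn q hq =>
    hDel q (show img dPos q.val < 324 by
      have := List.all_eq_true.1 inside_points n hn
      rw [Nat.ble_eq] at this
      rw [hq]
      exact this)
  simp only [List.forall_mem_cons, List.not_mem_nil, IsEmpty.forall_iff, implies_true, and_true] at hin
  obtain ⟨i0, i7999, i8002, i8004, i8006, i1364, i11589, i8001, i8007⟩ := hin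
  obtain ⟨hr, h, e⟩ := orbit_cases p hpD
  have hroot : InP M (rootPt (img bigMeta p.val % 2)) := fun q hq => by
    rw [show q = (h : Fj)⁻¹ • p by rw [← e, inv_smul_smul]; exact Fin.ext hq, tr_smul, inv_inv]
    exact mul_mem (mul_mem (inv_mem (hle h.2)) hp) (hle h.2)
  have h5 : InP M 8005 := by
    by_cases hb : Nat.beq (img bigMeta p.val % 2) 0 = true
    · rwa [rootPt, if_pos hb] at hroot
    · rw [rootPt, if_neg hb] at hroot
      have a1 := InP.step closure1 tt0 i0 hroot (by norm_num)
      have a2 := InP.step closure2 tt7999 i7999 a1 (by norm_num)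
      have a3 := InP.step closure3 tt8002 i8002 a2 (by norm_num)
      have a4 := InP.step closure4 tt8002 i8002 hroot (by norm_num)
      have a5 := InP.step closure5 tt8004 i8004 a4 (by norm_num)
      have a6 := InP.step closure6 tt8004 i8004 a3 (by norm_num)
      have a7 := InP.step closure7 tt8006 i8006 a5 (by norm_num)
      have a8 := InP.step closure8 tt8006 i8006 a6 (by norm_num)
      have a9 := InP.step closure9 tt31603 hroot a7 (by norm_num)
      have a10 := InP.step closure10 tt31603 hroot a8 (by norm_num)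
      have a11 := InP.step closure11 tt917 a9 i1364 (by norm_num)
      have a12 := InP.step closure12 tt3305 a10 a11 (by norm_num)
      exact a12
  have horb : ∀ n, n < 31671 → Nat.beq (img dPos n) 324 = true → Nat.beq (img bigMeta n % 2) 0 = true → InP M n := by
    intro n hn hout hbit q hq
    have hqD : q ∉ Delta := by
      show ¬ img dPos q.val < 324
      rw [hq, Nat.eq_of_beq_eq_true hout]
      exact lt_irrefl _
    obtain ⟨hr', k, ek⟩ := orbit_cases q hqD
    rw [← ek, tr_smul]
    refine mul_mem (mul_mem (hle k.2) (h5 _ ?_)) (inv_mem (hle k.2))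
    show rootPt (img bigMeta q.val % 2) = 8005
    rw [hq, rootPt, if_pos hbit]
  have hb := root_bits
  simp only [Bool.and_eq_true] at hb
  have h0 := horb 8000 (by norm_num) hb.1.2 hb.1.1.1
  have h3 := horb 8003 (by norm_num) hb.2 hb.1.1.2
  apply hne
  rw [eq_top_iff, ← closure_im, Subgroup.closure_le]
  rintro _ ⟨k, hk, rfl⟩
  obtain ⟨q, hq, ek⟩ := letter_spec k hk
  rw [SetLike.mem_coe, ← ek]
  have hall : ∀ b ∈ letterPts, InP M b := by
    simp only [letterPts, List.forall_mem_cons, List.not_mem_nil, IsEmpty.forall_iff, implies_true, and_true]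
    exact ⟨i11589, i8006, h5, h3, i8002, i8001, h0, i8004, i8007, i7999⟩
  exact hall _ (by rw [List.getD_eq_getElem _ _ (show k < letterPts.length from hk)]; exact List.getElem_mem _) q hq

end Cfsg.Lib.FiBigMax
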