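import Cfsg.Agent.Chars.Burnside
import Mathlib.GroupTheory.SpecificGroups.Cyclic

/-!
Groups with at most three elements.
-/

set_option autoImplicit false

namespace Cfsg.Lib.FiBigMax

theorem small_solvable {G : Type*} [Group G] [Finite G] (h : Nat.card G ≤ 3) : Group.IsSolvable G := by
  refine Cfsg.Lib.Chars.burnside_isSolvable 2 3 Nat.prime_two Nat.prime_three G ?_
  have := Nat.card_pos (α := G)
  rcases (show Nat.card G = 1 ∨ Nat.card G = 2 ∨ Nat.card G = 3 by omega) with e | e | e
  · exact ⟨0, 0, by simp [e]⟩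
  · exact ⟨1, 0, by simp [e]⟩
  · exact ⟨0, 1, by simp [e]⟩

theorem small_commute {G : Type*} [Group G] {K : Subgroup G} [Finite K] (h : Nat.card K ≤ 3) {a b : G} (ha : a ∈ K)
    (hb : b ∈ K) : Commute a b := by
  have := Nat.card_pos (α := K)
  have hc : (⟨a, ha⟩ : K) * ⟨b, hb⟩ = ⟨b, hb⟩ * ⟨a, ha⟩ := by
    rcases (show Nat.card K = 1 ∨ Nat.card K = 2 ∨ Nat.card K = 3 by omega) with e | e | e
    · haveI := (Nat.card_eq_one_iff_unique.1 e).1
      exact Subsingleton.elim _ _
    · haveI : Fact (Nat.Prime 2) := ⟨Nat.prime_two⟩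
      haveI := isCyclic_of_prime_card (p := 2) e
      letI := IsCyclic.commGroup (α := K)
      exact mul_comm _ _
    · haveI : Fact (Nat.Prime 3) := ⟨Nat.prime_three⟩
      haveI := isCyclic_of_prime_card (p := 3) e
      letI := IsCyclic.commGroup (α := K)
      exact mul_comm _ _
  exact congrArg Subtype.val hc

end Cfsg.Lib.FiBigMax
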