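import Cfsg.Agent.FiBigMax.Order
import Cfsg.Agent.FiBigMax.Kernel
import Cfsg.Agent.FiBigMax.Maximal
import Cfsg.Agent.FiBigMax.Small
import Cfsg.Agent.FiTwenty.Simple

/-!
The stabiliser of the set is solvable of derived length ten.
-/

set_option autoImplicit false
set_option maxRecDepth 20000

namespace Cfsg.Lib.FiBigMax

open Cfsg.Lib.FiBig Cfsg.Lib.FiTwenty
open scoped commutatorElement
open Cfsg.Lib.FiThree (img allB allB_iff evs)

theorem wit_table : wordOK [tp0, tp7999] (slTabs.getD slA 0) = true := by decide +kernel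

theorem wit_level : (Nat.ble (slA + 1) slSize && Nat.beq (slLev slA) 8) = true := by decide +kernel

theorem wit_moves :
    Nat.beq (evs [tp0, tp7999, tp395, tm12, tp0, tp7999, tm12, tp395] 7)
      (evs [tp395, tm12, tp0, tp7999, tm12, tp395, tp0, tp7999] 7) = false := by
  decide +kernel

theorem wit_inside : (Nat.ble (img dPos 0 + 1) 324 && Nat.ble (img dPos 7999 + 1) 324) = true := by decide +kernel

attribute [local irreducible] dF dPos slTabs slDefs

theorem H_solvable : Group.IsSolvable H := by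
  have hk : Group.IsSolvable rho.ker := by
    refine Cfsg.Lib.FiBigMax.small_solvable ?_
    exact card_ker
  have hr : Group.IsSolvable rho.range :=
    Cfsg.Lib.Chars.burnside_isSolvable 2 3 Nat.prime_two Nat.prime_three _ ⟨11, 12, by rw [card_range]; norm_num⟩
  exact Group.isSolvable_of_ker_le_range rho.ker.subtype rho.rangeRestrict
    (by rw [MonoidHom.ker_rangeRestrict, Subgroup.range_subtype])

theorem elW_cat (u v : List ℕ) : elW (u ++ v) = elW u * elW v := by simp [elW]

theorem derived_ne : derivedSeries H 10 ≠ derivedSeries H 9 := by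
  intro e
  have hstab : ∀ n, derivedSeries H (9 + n) = derivedSeries H 9 := by
    intro n
    induction n with
    | zero => rfl
    | succ n ih => rw [← add_assoc, derivedSeries_succ, ih, ← derivedSeries_succ, e]
  obtain ⟨n, hn⟩ := (Group.isSolvable_def H).1 H_solvable
  have h9 : derivedSeries H 9 = ⊥ :=
    le_bot_iff.1 (by rw [← hstab n, ← hn]; exact derivedSeries_antitone H (Nat.le_add_left n 9))
  have hw : ∀ a ∈ [tp0, tp7999], Ok a := by simpa using ⟨tt0.ok, tt7999.ok⟩
  obtain ⟨A, hA, hAT⟩ := gen_of_word hw wit_table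
  have hl := wit_level
  simp only [Bool.and_eq_true, Nat.ble_eq] at hl
  obtain ⟨A', hA', hA'T⟩ := sl_rep slA hl.1
  rw [Nat.eq_of_beq_eq_true hl.2] at hA'
  obtain ⟨g, hg, -⟩ := gen_spec (k := 5) (by norm_num)
  have hrho : rho A' = rho A := Equiv.ext fun i => Fin.ext ((hA'T i).trans (hAT i).symm)
  set k : H := A⁻¹ * A' with hk
  have hkk : k ∈ rho.ker := by rw [MonoidHom.mem_ker, map_mul, hrho, map_inv, inv_mul_cancel]
  have hcomA : ∀ c ∈ rho.ker, Commute c A := fun c hc => by
    have hin := Bool.and_eq_true_iff.1 wit_inside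
    refine Subtype.ext (show (c : Fj) * (A : Fj) = (A : Fj) * (c : Fj) from ?_)
    have e2 : (A : Fj) = el tp0 * el tp7999 := by rw [hA]; simp [elW]
    rw [e2, tt0.el_eq, tt7999.el_eq]
    exact (((commute_tr _ _).2 (mem_ker.1 hc ⟨0, by norm_num⟩ (mem_Delta_of (n := 0) rfl hin.1))).mul_right ((commute_tr _ _).2 (mem_ker.1 hc ⟨7999, by norm_num⟩ (mem_Delta_of (n := 7999) rfl hin.2)))).eq
  set B : H := g * A * g⁻¹ with hB
  have hcomB : ∀ c ∈ rho.ker, Commute c B := fun c hc => by
    have h1 : Commute (g⁻¹ * c * g) A := hcomA _ (by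
      have := (MonoidHom.normal_ker rho).conj_mem c hc g⁻¹
      simpa using this)
    have h2 := (Commute.conj_iff g).2 h1
    rwa [show g * (g⁻¹ * c * g) * g⁻¹ = c by group] at h2
  set k' : H := g * k * g⁻¹ with hk'
  have hk'k : k' ∈ rho.ker := (MonoidHom.normal_ker rho).conj_mem k hkk g
  have hkc : Commute k k' := small_commute card_ker hkk hk'k
  have hA'e : A' = A * k := by rw [hk, mul_inv_cancel_left]
  have hB'e : g * A' * g⁻¹ = B * k' := by rw [hA'e, hB, hk']; group
  have hB'm : g * A' * g⁻¹ ∈ derivedSeries H 8 := (derivedSeries_normal H 8).conj_mem A' hA' g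
  have hm : ⁅A', g * A' * g⁻¹⁆ ∈ derivedSeries H 9 := Subgroup.commutator_mem_commutator hA' hB'm
  rw [h9, Subgroup.mem_bot, commutatorElement_eq_one_iff_mul_comm, hB'e, hA'e] at hm
  have e1 : A * B * (k * k') = B * A * (k * k') := by
    calc A * B * (k * k') = A * (B * k) * k' := by group
      _ = A * (k * B) * k' := by rw [(hcomB k hkk).eq]
      _ = A * k * (B * k') := by group
      _ = B * k' * (A * k) := hm
      _ = B * (k' * A) * k := by group
      _ = B * (A * k') * k := by rw [(hcomA k' hk'k).eq]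
      _ = B * A * (k' * k) := by group
      _ = B * A * (k * k') := by rw [hkc.eq]
  have e2 : A * B = B * A := mul_right_cancel e1
  have hv : ∀ a ∈ [tp0, tp7999, tp395, tm12], Ok a := by simpa using ⟨tt0.ok, tt7999.ok, tt395.ok, tn12.ok⟩
  have eA : (A : Fj) = elW [tp0, tp7999] := hA
  have eB : (B : Fj) = elW [tp395, tm12, tp0, tp7999, tm12, tp395] := by
    have eg : (g : Fj) = el tp395 * el tm12 := by rw [hg]; simp [gWords, elW]
    rw [hB, Subgroup.coe_mul, Subgroup.coe_mul, Subgroup.coe_inv, eg, eA, mul_inv_rev, tt395.el_eq, tn12.el_eq, tr_inv,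
      tr_inv]
    simp [elW, mul_assoc, tt395.el_eq, tn12.el_eq]
  have e3 := congrArg (fun x : H => ((x : Fj) • (⟨7, by norm_num⟩ : Fin 31671) : Fin 31671).val) e2
  simp only [Subgroup.coe_mul, mul_smul] at e3
  rw [← mul_smul, ← mul_smul, eA, eB, ← elW_cat, ← elW_cat,
    elW_smul (by simp only [List.forall_mem_cons] at hv; simp [hv.1, hv.2.1, hv.2.2.1, hv.2.2.2.1]),
    elW_smul (by simp only [List.forall_mem_cons] at hv; simp [hv.1, hv.2.1, hv.2.2.1, hv.2.2.2.1])] at e3
  have := wit_moves
  simp only [List.cons_append, List.nil_append] at e3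
  rw [e3, Nat.beq_refl] at this
  exact absurd this (by simp)

theorem center_fi : Subgroup.center Fj = ⊥ := by
  rw [Subgroup.eq_bot_iff_forall]
  intro g hg
  refine eq_one_of_letters fun b _ p _ => ?_
  exact (commute_tr g p).1 (Subgroup.mem_center_iff.1 hg (tr p)).symm

theorem not_comm_top : ¬ IsMulCommutative (⊤ : Subgroup Fj) := by
  intro h
  have hc : Subgroup.center Fj = ⊤ := by
    rw [eq_top_iff]
    intro g _
    rw [Subgroup.mem_center_iff]
    intro x
    exact congrArg Subtype.val (h.is_comm.comm ⟨x, Subgroup.mem_top x⟩ ⟨g, Subgroup.mem_top g⟩)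
  rw [center_fi] at hc
  haveI := simple_fi
  exact bot_ne_top hc

end Cfsg.Lib.FiBigMax
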