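import Cfsg.Agent.FiBigMax.Gens
import Cfsg.Agent.FiBigMax.Data.Op

/-!
The transpositions of the points of the set keep it, and their action on it.
-/

set_option autoImplicit false
set_option maxRecDepth 20000

namespace Cfsg.Lib.FiBigMax

open Cfsg.Lib.FiBig
open Cfsg.Lib.FiThree (img allB allB_iff evs)

/-- The image of the second point under the transposition of the first. -/
def op (i j : ℕ) : ℕ := img ((opRows.getD (i / 18) []).getD (i % 18) 0) j

theorem op_root :
    (Nat.beq (img dF opRoot) 8002 && Nat.ble (opRoot + 1) 324 &&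
      allB (fun j => Nat.beq (img dPos (img tp8002 (img dF j))) (op opRoot j) && Nat.ble (op opRoot j + 1) 324) 324) =
      true := by
  decide +kernel

theorem op_step :
    allB (fun i => Nat.beq i opRoot ||
      (Nat.ble (img opPar i + 1) 324 && Nat.ble (img opGen i + 1) 8 && Nat.ble (img opRank (img opPar i) + 1) (img opRank i) &&
        Nat.beq (img (slTabs.getD (img opGen i) 0) (img opPar i)) i &&
        allB (fun j => Nat.beq (op i (img (slTabs.getD (img opGen i) 0) j))
          (img (slTabs.getD (img opGen i) 0) (op (img opPar i) j))) 324)) 324 = true := by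
  decide +kernel

attribute [local irreducible] dF dPos op opPar opGen opRank slTabs

theorem op_spec (i j : Fin 324) : ∃ h : op i.val j.val < 324, tr (pt i) • pt j = pt ⟨op i.val j.val, h⟩ := by
  induction hn : img opRank i.val using Nat.strong_induction_on generalizing i j with
  | _ n ih =>
    subst hn
    have hs := allB_iff.1 op_step i.val i.isLt
    have hr := op_root
    simp only [Bool.or_eq_true, Bool.and_eq_true, Nat.ble_eq] at hs
    simp only [Bool.and_eq_true, Nat.ble_eq] at hr
    rcases hs with h | ⟨⟨⟨⟨hu, hk⟩, hlt⟩, hi⟩, hall⟩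
    · have e := Nat.eq_of_beq_eq_true h
      have hj := allB_iff.1 hr.2 j.val j.isLt
      simp only [Bool.and_eq_true, Nat.ble_eq] at hj
      have hp : tr (pt i) = el tp8002 := by
        rw [tt8002.el_eq]
        exact congrArg tr (Fin.ext (by
          show img dF i.val = 8002
          rw [e]
          exact Nat.eq_of_beq_eq_true hr.1.1))
      have hv : (tr (pt i) • pt j : Fin 31671).val = img tp8002 (img dF j.val) := by
        rw [hp, tt8002.ok.smul]
        rfl
      have hlt' : op i.val j.val < 324 := by rw [e]; exact hj.2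
      have hd : img dPos (tr (pt i) • pt j : Fin 31671).val = op i.val j.val := by
        rw [hv, e]
        exact Nat.eq_of_beq_eq_true hj.1
      refine ⟨hlt', ?_⟩
      have hm : tr (pt i) • pt j ∈ Delta := lt_of_eq_of_lt hd hlt'
      rw [← pt_pos hm]
      exact congrArg pt (Fin.ext hd)
    · obtain ⟨g, -, hg⟩ := gen_spec hk
      obtain ⟨j0, rfl⟩ := (rho g).surjective j
      have hp : rho g ⟨img opPar i.val, hu⟩ = i := Fin.ext ((hg _).trans (Nat.eq_of_beq_eq_true hi))
      obtain ⟨ho, e⟩ := ih _ hlt ⟨img opPar i.val, hu⟩ j0 rfl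
      have ept : pt i = (g : Fj) • pt ⟨img opPar i.val, hu⟩ := by rw [← pt_rho, hp]
      have key : tr (pt i) • pt (rho g j0) = pt (rho g ⟨op (img opPar i.val) j0.val, ho⟩) := by
        rw [pt_rho g ⟨_, ho⟩, ← e, ept, pt_rho, tr_smul, mul_smul, mul_smul, inv_smul_smul]
      have hv : op i.val (rho g j0).val = (rho g ⟨op (img opPar i.val) j0.val, ho⟩).val := by
        rw [hg j0, hg ⟨_, ho⟩]
        exact Nat.eq_of_beq_eq_true (allB_iff.1 hall j0.val j0.isLt)
      exact ⟨hv.symm ▸ Fin.isLt _, key.trans (congrArg pt (Fin.ext hv.symm))⟩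

theorem op_lt (i j : Fin 324) : op i.val j.val < 324 := (op_spec i j).1

theorem tr_pt_mem (i : Fin 324) : tr (pt i) ∈ H :=
  mem_H.2 fun j => (op_spec i j).2 ▸ pt_mem _

theorem op_rho (h : H) (i j : Fin 324) :
    ((rho h ⟨op i.val j.val, op_lt i j⟩ : Fin 324) : ℕ) = op (rho h i).val (rho h j).val := by
  have e : rho h ⟨op i.val j.val, op_lt i j⟩ = ⟨op (rho h i).val (rho h j).val, op_lt _ _⟩ := pt_inj (by
    rw [pt_rho h ⟨_, _⟩, ← (op_spec i j).2, ← (op_spec (rho h i) (rho h j)).2, pt_rho, pt_rho, tr_smul, mul_smul,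
      mul_smul, inv_smul_smul])
  rw [e]

end Cfsg.Lib.FiBigMax
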