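import Cfsg.Agent.FiBigMax.Op
import Mathlib.GroupTheory.Solvable

/-!
The straight line programme of permutations of the set coming from the derived series.
-/

set_option autoImplicit false
set_option maxRecDepth 20000

namespace Cfsg.Lib.FiBigMax

open Cfsg.Lib.FiBig
open scoped commutatorElement
open Cfsg.Lib.FiThree (img allB allB_iff evs)

/-- The table is that of an element of the derived subgroup with the index. -/
def Rep (k t : ℕ) : Prop := ∃ h : H, h ∈ derivedSeries H k ∧ HasT h t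

/-- The derived index of an entry. -/
def slLev (i : ℕ) : ℕ := if i < 8 then 0 else (slDefs.getD (i - 8) (0, 0, 0, 0)).2.2.2

/-- The checks of one entry. -/
def slOK (i : ℕ) : Bool :=
  let d := slDefs.getD (i - 8) (0, 0, 0, 0)
  let t := slTabs.getD i 0
  let tu := slTabs.getD d.2.1 0
  let tv := slTabs.getD d.2.2.1 0
  Nat.ble (d.2.1 + 1) i && Nat.ble (d.2.2.1 + 1) i &&
    ((Nat.beq d.1 1 && Nat.ble d.2.2.2 (slLev d.2.1) && Nat.ble d.2.2.2 (slLev d.2.2.1) &&
        allB (fun x => Nat.beq (img t x) (img tu (img tv x))) 324) ||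
      (Nat.beq d.1 2 && Nat.ble d.2.2.2 (slLev d.2.1 + 1) && Nat.ble d.2.2.2 (slLev d.2.2.1 + 1) &&
        allB (fun x => Nat.beq (img t (img tv (img tu x))) (img tu (img tv x))) 324) ||
      (Nat.beq d.1 3 && Nat.ble d.2.2.2 (slLev d.2.1) && allB (fun x => Nat.beq (img t (img tu x)) x) 324))

/-- The number of entries. -/
def slSize : ℕ := slTabs.length

theorem sl_check : allB (fun i => Nat.ble (i + 1) 8 || slOK i) slSize = true := by decide +kernel

attribute [local irreducible] dF dPos slTabs slDefs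

theorem HasT.mul {g h : H} {tg th t : ℕ} (hg : HasT g tg) (hh : HasT h th)
    (e : ∀ x < 324, img t x = img tg (img th x)) : HasT (g * h) t := fun i => by
  rw [map_mul, Equiv.Perm.mul_apply, hg, hh, e _ i.isLt]

theorem HasT.comm {g h : H} {tg th t : ℕ} (hg : HasT g tg) (hh : HasT h th)
    (e : ∀ x < 324, img t (img th (img tg x)) = img tg (img th x)) : HasT ⁅g, h⁆ t := fun i => by
  obtain ⟨x, rfl⟩ := (rho (h * g)).surjective i
  have e1 : rho ⁅g, h⁆ (rho (h * g) x) = rho (g * h) x := by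
    rw [← Equiv.Perm.mul_apply, ← map_mul, commutatorElement_def]
    congr 2
    group
  rw [e1, map_mul, map_mul, Equiv.Perm.mul_apply, Equiv.Perm.mul_apply, hg, hh, hh, hg, e _ x.isLt]

theorem HasT.inv {g : H} {tg t : ℕ} (hg : HasT g tg) (e : ∀ x < 324, img t (img tg x) = x) : HasT g⁻¹ t :=
  fun i => by
  obtain ⟨x, rfl⟩ := (rho g).surjective i
  rw [hg, e _ x.isLt, ← Equiv.Perm.mul_apply, ← map_mul, inv_mul_cancel, map_one]
  rfl

theorem sl_rep : ∀ i < slSize, Rep (slLev i) (slTabs.getD i 0) := by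
  intro i
  induction i using Nat.strong_induction_on with
  | _ i ih =>
    intro hi
    rcases lt_or_ge i 8 with h8 | h8
    · obtain ⟨g, -, hg⟩ := gen_spec h8
      refine ⟨g, ?_, hg⟩
      rw [slLev, if_pos h8, derivedSeries_zero]
      exact Subgroup.mem_top g
    have hc := allB_iff.1 sl_check i hi
    have hl : slLev i = (slDefs.getD (i - 8) (0, 0, 0, 0)).2.2.2 := if_neg (by omega)
    rw [hl]
    simp only [Bool.or_eq_true, Nat.ble_eq] at hc
    rcases hc with hc | hc
    · omega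
    simp only [slOK, Bool.and_eq_true, Bool.or_eq_true, Nat.ble_eq] at hc
    obtain ⟨⟨hu, hv⟩, hk⟩ := hc
    obtain ⟨gu, hgu, htu⟩ := ih _ hu (lt_trans hu hi)
    obtain ⟨gv, hgv, htv⟩ := ih _ hv (lt_trans hv hi)
    rcases hk with (⟨⟨⟨-, l1⟩, l2⟩, he⟩ | ⟨⟨⟨-, l1⟩, l2⟩, he⟩) | ⟨⟨-, l1⟩, he⟩
    · exact ⟨gu * gv, mul_mem (derivedSeries_antitone H l1 hgu) (derivedSeries_antitone H l2 hgv),
        htu.mul htv fun x hx => Nat.eq_of_beq_eq_true (allB_iff.1 he x hx)⟩
    · refine ⟨⁅gu, gv⁆, ?_, htu.comm htv fun x hx => Nat.eq_of_beq_eq_true (allB_iff.1 he x hx)⟩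
      generalize (slDefs.getD (i - 8) (0, 0, 0, 0)).2.2.2 = l at l1 l2 ⊢
      cases l with
      | zero => rw [derivedSeries_zero]; exact Subgroup.mem_top _
      | succ m =>
        rw [derivedSeries_succ]
        exact Subgroup.commutator_mem_commutator (derivedSeries_antitone H (Nat.le_of_succ_le_succ l1) hgu)
          (derivedSeries_antitone H (Nat.le_of_succ_le_succ l2) hgv)
    · exact ⟨gu⁻¹, inv_mem (derivedSeries_antitone H l1 hgu),
        htu.inv fun x hx => Nat.eq_of_beq_eq_true (allB_iff.1 he x hx)⟩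

end Cfsg.Lib.FiBigMax
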