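import Cfsg.Agent.FiBigMax.Colour
import Cfsg.Agent.FiBigMax.Programme
import Cfsg.Agent.FiBigMax.Data.Last
import Mathlib.GroupTheory.GroupAction.Quotient
import Mathlib.GroupTheory.Index

/-!
The order of the image of the stabiliser in the permutations of the set.
-/

set_option autoImplicit false
set_option maxRecDepth 20000

namespace Cfsg.Lib.FiBigMax

open Cfsg.Lib.FiBig MulAction
open Cfsg.Lib.FiThree (img allB allB_iff evs)

/-- The checks of one level: the class is the orbit. -/
def levOK (fx : List ℕ) (b : ℕ) (inC : ℕ → Bool) (gens : List ℕ) (par gen rank size : ℕ) : Bool :=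
  Nat.ble (b + 1) 324 && inC b && Nat.beq ((List.range 324).countP inC) size &&
    gens.all (fun j => Nat.ble (j + 1) slSize && fx.all fun f => Nat.beq (img (slTabs.getD j 0) f) f) &&
    allB (fun p => !inC p || Nat.beq p b ||
      (Nat.ble (img par p + 1) 324 && gens.any (Nat.beq (img gen p)) && Nat.ble (img rank (img par p) + 1) (img rank p) &&
        inC (img par p) && Nat.beq (img (slTabs.getD (img gen p) 0) (img par p)) p)) 324

attribute [local irreducible] dF dPos op slTabs slDefs

theorem card_step {fx : List ℕ} {b : ℕ} {inC : ℕ → Bool} {gens : List ℕ} {par gen rank size : ℕ}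
    (h : levOK fx b inC gens par gen rank size = true)
    (hsub : ∀ σ ∈ fixIn fx, inC (natFun σ b) = true) :
    Nat.card (fixIn fx) = size * Nat.card (fixIn (fx ++ [b])) := by
  simp only [levOK, Bool.and_eq_true, Nat.ble_eq, List.all_eq_true] at h
  obtain ⟨⟨⟨⟨hb, hbC⟩, hsize⟩, hgens⟩, htree⟩ := h
  let L := fixIn fx
  let B : Fin 324 := ⟨b, hb⟩
  have horb : orbit L B = {p : Fin 324 | inC p.val = true} := by
    refine Set.Subset.antisymm ?_ ?_
    · rintro _ ⟨⟨σ, hσ⟩, rfl⟩
      show inC (σ B).val = true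
      rw [← natFun_val]
      exact hsub σ hσ
    · intro p hp
      induction hn : img rank p.val using Nat.strong_induction_on generalizing p with
      | _ n ih =>
        subst hn
        have ht := allB_iff.1 htree p.val p.isLt
        simp only [Bool.or_eq_true, Bool.and_eq_true, Bool.not_eq_true', Nat.ble_eq, List.any_eq_true] at ht
        rcases ht with (h0 | h0) | ⟨⟨⟨⟨hu, j, hj, hje⟩, hlt⟩, huC⟩, hi⟩
        · exact absurd hp (by simp [h0])
        · rw [show p = B from Fin.ext (Nat.eq_of_beq_eq_true h0)]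
          exact mem_orbit_self B
        · obtain rfl := Nat.eq_of_beq_eq_true hje
          obtain ⟨g, -, hg⟩ := sl_rep _ (hgens _ hj).1
          have hmem : rho g ∈ L := ⟨⟨g, rfl⟩, fun i hif =>
            Fin.ext ((hg i).trans (Nat.eq_of_beq_eq_true ((hgens _ hj).2 _ hif)))⟩
          have := ih _ hlt (p := ⟨img par p.val, hu⟩) huC rfl
          rw [← orbit_eq_iff.2 this]
          exact ⟨⟨rho g, hmem⟩, Fin.ext ((hg _).trans (Nat.eq_of_beq_eq_true hi))⟩
  have hcard : (orbit L B).ncard = size := by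
    classical
    rw [horb, show {p : Fin 324 | inC p.val = true} = ↑(Finset.univ.filter fun p : Fin 324 => inC p.val = true) by
      ext; simp, Set.ncard_coe_finset, ← Nat.eq_of_beq_eq_true hsize, ← List.map_coe_finRange_eq_range,
      List.countP_map, List.countP_eq_length_filter, ← List.toFinset_card_of_nodup ((List.nodup_finRange 324).filter _)]
    congr 1
    ext p
    simp
  have hstab : (stabilizer L B).map L.subtype = fixIn (fx ++ [b]) := by
    ext σ
    rw [Subgroup.mem_map]
    constructor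
    · rintro ⟨⟨τ, hτ⟩, hB, rfl⟩
      refine ⟨hτ.1, fun i hi => ?_⟩
      rcases List.mem_append.1 hi with h1 | h1
      · exact hτ.2 i h1
      · rw [show i = B from Fin.ext (List.mem_singleton.1 h1)]
        exact hB
    · intro hσ
      exact ⟨⟨σ, hσ.1, fun i hi => hσ.2 i (List.mem_append_left _ hi)⟩,
        hσ.2 B (List.mem_append_right _ (List.mem_singleton.2 rfl)), rfl⟩
  rw [← hstab, Subgroup.card_map_of_injective L.subtype_injective, ← hcard, ← index_stabilizer,
    mul_comm, Subgroup.card_mul_index]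

/-- Membership in the class of a level. -/
def inCl (fx : List ℕ) (col : ℕ) (cn : List ℕ) (p : ℕ) : Bool :=
  Nat.beq (c1 fx p) col && cn.all (Nat.beq (cnt fx p))

theorem inCl_inv {fx : List ℕ} {col : ℕ} {cn : List ℕ} {b : ℕ} (hfx : ∀ x ∈ fx, x < 324) (hb : b < 324)
    (hbC : inCl fx col cn b = true) : ∀ σ ∈ fixIn fx, inCl fx col cn (natFun σ b) = true := by
  intro σ hσ
  unfold inCl at hbC ⊢
  rw [c1_inv hfx hσ hb, cnt_inv hfx hσ hb]
  exact hbC

/-- The two possible images of the last base point. -/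
def inTwo (p : ℕ) : Bool := Nat.beq p 1 || Nat.beq p 100

theorem lev0 : levOK [] 0 (inCl [] 0 []) lvGens0 lvPar0 lvGen0 lvRank0 324 = true := by decide +kernel

theorem lev1 : levOK [0] 17 (inCl [0] 0 [28]) lvGens1 lvPar1 lvGen1 lvRank1 288 = true := by decide +kernel

theorem lev2 : levOK [0, 17] 108 (inCl [0, 17] 0 [28]) lvGens2 lvPar2 lvGen2 lvRank2 216 = true := by
  decide +kernel

theorem lev3 : levOK [0, 17, 108] 4 (inCl [0, 17, 108] 9009000000 []) lvGens3 lvPar3 lvGen3 lvRank3 27 = true := by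
  decide +kernel

theorem lev4 : levOK [0, 17, 108, 4] 1 inTwo lvGens4 lvPar4 lvGen4 lvRank4 2 = true := by decide +kernel

/-- The derivations determine the function. -/
def derGo (f : ℕ → ℕ) : List ℕ → List (ℕ × ℕ × ℕ) → Bool
  | known, [] => allB (fun p => known.any (Nat.beq p)) 324
  | known, (w, a, b) :: r =>
    known.any (Nat.beq a) && known.any (Nat.beq b) && Nat.beq (op a b) w && Nat.beq (op (f a) (f b)) (f w) &&
      derGo f (w :: known) r

theorem derGo_spec {σ : Equiv.Perm (Fin 324)} (hσ : σ ∈ rho.range) {f : ℕ → ℕ} :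
    ∀ {l : List (ℕ × ℕ × ℕ)} {known : List ℕ}, (∀ a ∈ known, a < 324 ∧ natFun σ a = f a) →
      derGo f known l = true → ∀ p < 324, natFun σ p = f p
  | [], known, hk, h, p, hp => by
    have := allB_iff.1 h p hp
    simp only [List.any_eq_true] at this
    obtain ⟨a, ha, e⟩ := this
    obtain rfl := Nat.eq_of_beq_eq_true e
    exact (hk p ha).2
  | (w, a, b) :: r, known, hk, h, p, hp => by
    simp only [derGo, Bool.and_eq_true, List.any_eq_true] at h
    obtain ⟨⟨⟨⟨⟨a', ha, ea⟩, b', hb, eb⟩, hw⟩, hf⟩, hr⟩ := h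
    obtain rfl := Nat.eq_of_beq_eq_true ea
    obtain rfl := Nat.eq_of_beq_eq_true eb
    obtain rfl := Nat.eq_of_beq_eq_true hw
    refine derGo_spec hσ ?_ hr p hp
    intro x hx
    rcases List.mem_cons.1 hx with rfl | hx
    · refine ⟨op_lt ⟨a, (hk a ha).1⟩ ⟨b, (hk b hb).1⟩, ?_⟩
      rw [natFun_op hσ (hk a ha).1 (hk b hb).1, (hk a ha).2, (hk b hb).2, Nat.eq_of_beq_eq_true hf]
    · exact hk x hx

theorem der_id : derGo (fun x => x) [0, 17, 108, 4, 1] derList = true := by decide +kernel

theorem refuted_ok : (refuted.all fun r =>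
    [0, 17, 108, 4].all (fun x => Nat.beq (img r.2.1 x) x) && Nat.beq (img r.2.1 1) r.1 &&
      derGo (img r.2.1) [0, 17, 108, 4, 1] derList && Nat.ble (r.2.2.1 + 1) 324 && Nat.ble (r.2.2.2 + 1) 324 &&
      !Nat.beq (img r.2.1 (op r.2.2.1 r.2.2.2)) (op (img r.2.1 r.2.2.1) (img r.2.1 r.2.2.2))) = true := by
  decide +kernel

theorem last_class :
    allB (fun p => !Nat.beq (c1 [0, 17, 108, 4] p) (c1 [0, 17, 108, 4] 1) || inTwo p ||
      refuted.any fun r => Nat.beq r.1 p) 324 = true := by
  decide +kernel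

theorem fix_four : ∀ σ ∈ fixIn [0, 17, 108, 4], inTwo (natFun σ 1) = true := by
  intro σ hσ
  have hfx : ∀ x ∈ [0, 17, 108, 4], x < 324 := by simp
  have hlt : natFun σ 1 < 324 := natFun_lt σ (by norm_num)
  have hc := allB_iff.1 last_class _ hlt
  simp only [Bool.or_eq_true, Bool.not_eq_true', List.any_eq_true] at hc
  rcases hc with (h | h) | ⟨r, hr, he⟩
  · rw [c1_inv hfx hσ (by norm_num), Nat.beq_refl] at h
    exact absurd h (by simp)
  · exact h
  · exfalso
    have := List.all_eq_true.1 refuted_ok r hr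
    simp only [Bool.and_eq_true, List.all_eq_true, Nat.ble_eq, Bool.not_eq_true'] at this
    obtain ⟨⟨⟨⟨⟨h4, h1⟩, hd⟩, ha⟩, hb⟩, hne⟩ := this
    have hf := derGo_spec hσ.1 (f := img r.2.1) (known := [0, 17, 108, 4, 1]) (fun x hx => by
      rcases List.mem_append.1 (show x ∈ [0, 17, 108, 4] ++ [1] from hx) with h | h
      · exact ⟨hfx x h, (natFun_fix hσ h).trans (Nat.eq_of_beq_eq_true (h4 x h)).symm⟩
      · rw [List.mem_singleton.1 h]
        exact ⟨by norm_num, (Nat.eq_of_beq_eq_true he).symm.trans (Nat.eq_of_beq_eq_true h1).symm⟩) hd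
    rw [← hf _ (op_lt ⟨_, ha⟩ ⟨_, hb⟩), ← hf _ ha, ← hf _ hb, natFun_op hσ.1 ha hb, Nat.beq_refl] at hne
    exact absurd hne (by simp)

theorem fix_five : fixIn ([0, 17, 108, 4] ++ [1]) = ⊥ := by
  rw [Subgroup.eq_bot_iff_forall]
  intro σ hσ
  refine Equiv.ext fun i => Fin.ext ?_
  rw [← natFun_val]
  exact derGo_spec hσ.1 (f := fun x => x) (known := [0, 17, 108, 4, 1])
    (fun x hx => ⟨by revert x; simp, natFun_fix hσ hx⟩) der_id i.val i.isLt

theorem card_range : Nat.card rho.range = 1088391168 := by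
  have e0 : fixIn [] = rho.range := by
    ext σ
    exact ⟨fun h => h.1, fun h => ⟨h, fun i hi => absurd hi List.not_mem_nil⟩⟩
  have hb : ∀ {fx : List ℕ} {b : ℕ} {col : ℕ} {cn : List ℕ} {gens : List ℕ} {par gen rank size : ℕ},
      levOK fx b (inCl fx col cn) gens par gen rank size = true → b < 324 ∧ inCl fx col cn b = true := fun h => by
    simp only [levOK, Bool.and_eq_true, Nat.ble_eq] at h
    exact ⟨h.1.1.1.1, h.1.1.1.2⟩
  rw [← e0, card_step lev0 (inCl_inv (by simp) (hb lev0).1 (hb lev0).2), List.nil_append,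
    card_step lev1 (inCl_inv (by simp) (hb lev1).1 (hb lev1).2), List.singleton_append,
    card_step lev2 (inCl_inv (by simp) (hb lev2).1 (hb lev2).2), List.cons_append, List.singleton_append,
    card_step lev3 (inCl_inv (by simp) (hb lev3).1 (hb lev3).2), List.cons_append, List.cons_append, List.singleton_append,
    card_step lev4 fix_four, fix_five, Subgroup.card_bot]

end Cfsg.Lib.FiBigMax
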