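import Cfsg.Agent.FiBig.Tabs.D15_0
import Cfsg.Agent.FiBigMax.Data.NewTabs

/-!
Generated data for the maximal solvable subgroup: the new tables act as transpositions.
-/

set_option autoImplicit false
set_option maxRecDepth 100000

namespace Cfsg.Lib.FiBigMax

open Cfsg.Lib.FiBig

theorem tn28993 : TT 28993 tm28993 :=
  tt663.step (u := tm28993) (y := 28993) tt29232 (by decide +kernel) (by decide +kernel)

theorem tn15828 : TT 15828 tm15828 :=
  tt16578.step (u := tm15828) (y := 15828) tt2450 (by decide +kernel) (by decide +kernel)

theorem tn4202 : TT 4202 tm4202 :=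
  tt805.step (u := tm4202) (y := 4202) tt395 (by decide +kernel) (by decide +kernel)

theorem tn12 : TT 12 tm12 :=
  tt8003.step (u := tm12) (y := 12) tt16 (by decide +kernel) (by decide +kernel)

theorem tn5068 : TT 5068 tm5068 :=
  tt29836.step (u := tm5068) (y := 5068) tn15828 (by decide +kernel) (by decide +kernel)

end Cfsg.Lib.FiBigMax
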